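import Groth.Agent.EtDepthLib.Restriction
import Groth.Agent.EtShriekLib.Supp
import Groth.Agent.EtaleSite.ConstSections
import Groth.Agent.EtaleSite.Clopen
import Groth.Agent.EtShriekLib.FilteredColim
import Groth.Agent.FEtCat.Full

/-!
# Constant sheaves, clopen subsets and finite étale covers

* `ClopenI j`, `ClopenS j`: clopen subsets of étale schemes and the open `U`.
* `mono_unit_const`, `epi_unit_const`: the unit `F ⟶ j_* j⁻¹ F` for constant `F`.
* `clopenI_of_faithful`, `clopenS_of_full`, `faithful_restrict`, `full_restrict`.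
-/

set_option autoImplicit false

universe u

open CategoryTheory CategoryTheory.Limits AlgebraicGeometry Opposite TopologicalSpace

namespace Groth.Agent.EtDepthLib

open EtShriek (sectSupp)
open EtShriekLib (notMem_sectSupp_iff sectSupp_map isClosed_sectSupp eq_zero_of_sectSupp_empty
  sectSupp_neg sectSupp_add sectSupp_zero etale_left)
open EtaleSite.ConstSections (cst cSheaf map_cst cst_injective exists_eq_cst)
open EtaleSite (piece pieceHom)

variable {X U : Scheme.{u}} (j : U ⟶ X) [IsOpenImmersion j]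

/-- The part of an étale `X`-scheme over `U`. -/
def over (W : X.Etale) : W.left.Opens := W.hom ⁻¹ᵁ j.opensRange

omit [IsOpenImmersion j] in
theorem mem_preimage_iff [IsOpenImmersion j] (W : X.Etale) (x : W.left) :
    x ∈ over j W ↔ W.hom.base x ∈ Set.range j.base := Iff.rfl

/-- No nonempty clopen of an étale scheme avoids `U`. -/
def ClopenI : Prop :=
  ∀ (W : X.Etale) (C : Set W.left), IsClopen C → (∀ x ∈ C, x ∉ over j W) → C = ∅

/-- Clopens of the part over `U` extend. -/
def ClopenS : Prop :=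
  ∀ (W : X.Etale) (C' : Set (over j W : Scheme.{u})), IsClopen C' →
    ∃ C : Set W.left, IsClopen C ∧ (over j W).ι.base ⁻¹' C = C'

section Const

variable {M : AddCommGrpCat.{u + 1}}

theorem cst_sub (W : X.Etale) (c d : M) : cst W (c - d) = cst W c - cst W d :=
  map_sub _ c d

theorem sectSupp_cst {W : X.Etale} {c : M} (hc : c ≠ 0) :
    sectSupp (cSheaf X M) W (cst W c) = Set.univ := by
  refine Set.eq_univ_of_forall fun x V g hw h0 => hc ?_
  obtain ⟨v, -⟩ := hw
  rw [map_cst] at h0
  exact cst_injective v (h0.trans (map_zero ((EtaleSite.ConstSections.etaConst M).app (op V)).hom).symm)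

/-- Supports of sections of constant sheaves are clopen. -/
theorem isClopen_sectSupp (W : X.Etale) (s : EtCoh.sect (cSheaf X M) W) :
    IsClopen (sectSupp (cSheaf X M) W s) := by
  refine ⟨isClosed_sectSupp _ W s, isOpen_iff_forall_mem_open.2 fun x hx => ?_⟩
  obtain ⟨V, g, y, c, hy, hs⟩ := exists_eq_cst _ W (EtShriekLib.stdPt W x) s
  let yl : Spec (CommRingCat.of (SeparableClosure (W.left.residueField x))) ⟶ V.left := y.left
  let v : V.left := yl default
  have hv : g.left v = x :=
    (congrArg (fun q => q.left (default : Spec (CommRingCat.of (SeparableClosure (W.left.residueField x))))) hy).trans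
      (EtaleSite.geomPointAt_apply W.left x _)
  have hc : c ≠ 0 := fun h => hx V g ⟨v, hv⟩ (by
    rw [hs, h]; exact map_zero ((EtaleSite.ConstSections.etaConst M).app (op V)).hom)
  have hsub : Set.range g.left ⊆ sectSupp (cSheaf X M) W s := by
    rintro _ ⟨w, rfl⟩
    have : w ∈ sectSupp (cSheaf X M) V ((cSheaf X M).obj.map g.op s) := by
      rw [hs, sectSupp_cst hc]; trivial
    rwa [sectSupp_map] at this
  have := etale_left g
  exact ⟨_, hsub, g.left.isOpenMap.isOpen_range, v, hv⟩

/-- Where a section is equal to a constant. -/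
theorem exists_level (W : X.Etale) (s : EtCoh.sect (cSheaf X M) W) (x : W.left) :
    ∃ c : M, x ∉ sectSupp (cSheaf X M) W (s - cst W c) := by
  obtain ⟨V, g, y, c, hy, hs⟩ := exists_eq_cst _ W (EtShriekLib.stdPt W x) s
  let yl : Spec (CommRingCat.of (SeparableClosure (W.left.residueField x))) ⟶ V.left := y.left
  refine ⟨c, (notMem_sectSupp_iff _ _ x).2 ⟨V, g, ⟨yl default,
    (congrArg (fun q => q.left (default : Spec (CommRingCat.of (SeparableClosure (W.left.residueField x))))) hy).trans
      (EtaleSite.geomPointAt_apply W.left x _)⟩, ?_⟩⟩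
  rw [map_sub, hs, map_cst, sub_self]

theorem level_unique {W : X.Etale} (s : EtCoh.sect (cSheaf X M) W) {x : W.left} {c d : M}
    (hc : x ∉ sectSupp (cSheaf X M) W (s - cst W c)) (hd : x ∉ sectSupp (cSheaf X M) W (s - cst W d)) :
    c = d := by
  by_contra h
  have hx : x ∈ sectSupp (cSheaf X M) W (cst W (c - d)) := by
    rw [sectSupp_cst (sub_ne_zero.2 h)]; trivial
  rw [cst_sub, show cst W c - cst W d = -(s - cst W c) + (s - cst W d) from
    (neg_sub s (cst W c)).symm ▸ (sub_add_sub_cancel _ _ _).symm] at hx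
  rcases sectSupp_add _ _ _ hx with hx | hx
  · rw [sectSupp_neg] at hx; exact hc hx
  · exact hd hx

end Const

section Mono

variable (M : AddCommGrpCat.{u + 1})

theorem mem_unit_ker_iff (F : EtCoh.Ab X) (W : X.Etale) (s : EtCoh.sect F W) :
    (EtDual.unitApp j F).hom.app (op W) s = 0 ↔ ∀ x ∈ over j W, x ∉ sectSupp F W s := by
  refine (EtSupp.EtaleBC.unitApp_eq_zero_iff j F W s).trans ⟨fun h x hx => ?_, fun h V f hV => ?_⟩
  · refine (notMem_sectSupp_iff F s x).2 ⟨_, pieceHom W (over j W), ⟨(⟨x, hx⟩ : over j W), rfl⟩, ?_⟩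
    refine h _ _ ?_
    rintro _ ⟨z, rfl⟩
    exact z.2
  · refine eq_zero_of_sectSupp_empty F _ (Set.eq_empty_iff_forall_notMem.2 fun v hv => ?_)
    rw [sectSupp_map] at hv
    have hv' : W.hom.base (f.left.base v) ∈ Set.range j.base := by
      have e : W.hom.base (f.left.base v) = V.hom.base v :=
        congrArg (fun (q : V.left ⟶ X) => q.base v) (MorphismProperty.Over.w f)
      exact e ▸ hV ⟨v, rfl⟩
    exact h _ hv' hv

theorem mono_unit_const (h : ClopenI j) : Mono (EtDual.unitApp j (cSheaf X M)) := by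
  have : ∀ W, Mono ((EtDual.unitApp j (cSheaf X M)).hom.app W) := by
    rintro ⟨W⟩
    rw [AddCommGrpCat.mono_iff_injective, injective_iff_map_eq_zero]
    intro s hs
    refine eq_zero_of_sectSupp_empty _ s (h W _ (isClopen_sectSupp W s) fun x hx hx' => ?_)
    exact (mem_unit_ker_iff j _ W s).1 hs x hx' hx
  have : Mono ((sheafToPresheaf _ AddCommGrpCat.{u + 1}).map (EtDual.unitApp j (cSheaf X M))) :=
    NatTrans.mono_of_mono_app (EtDual.unitApp j (cSheaf X M)).hom
  exact (sheafToPresheaf _ _).mono_of_mono_map this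

theorem clopenI_of_mono {c : M} (hc : c ≠ 0) [Mono (EtDual.unitApp j (cSheaf X M))] : ClopenI j := by
  intro W C hC hdis
  classical
  let Os : Bool → W.left.Opens := fun b => cond b ⟨C, hC.2⟩ ⟨Cᶜ, hC.compl.2⟩
  obtain ⟨s, hs⟩ := EtaleSite.exists_glue_disjoint (cSheaf X M) Os
    (fun a b hab => by
      cases a <;> cases b <;> simp_all [Os, Opens.ext_iff, disjoint_iff])
    (fun x => by
      by_cases hx : x ∈ C
      exacts [⟨true, hx⟩, ⟨false, hx⟩])
    (fun b => cst _ (cond b c 0))
  have h0 : (EtDual.unitApp j (cSheaf X M)).hom.app (op W) s = 0 := by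
    rw [mem_unit_ker_iff]
    intro x hx
    have hxC : x ∉ C := fun h => hdis x h hx
    exact (notMem_sectSupp_iff _ s x).2 ⟨_, pieceHom W (Os false), ⟨(⟨x, hxC⟩ : Os false), rfl⟩,
      (hs false).trans (map_zero ((EtaleSite.ConstSections.etaConst M).app _).hom)⟩
  have hinj := injective_iff_map_eq_zero ((EtDual.unitApp j (cSheaf X M)).hom.app (op W)).hom |>.1
    (EtShriekLib.injective_app_of_mono (EtDual.unitApp j (cSheaf X M)) W) s h0
  refine Set.eq_empty_iff_forall_notMem.2 fun x hx => hc ?_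
  refine cst_injective (W := piece W (Os true)) (⟨x, hx⟩ : Os true) ?_
  refine (hs true).symm.trans ?_
  rw [hinj, map_zero]
  exact (map_zero ((EtaleSite.ConstSections.etaConst M).app _).hom).symm

end Mono

section Epi

variable (M : AddCommGrpCat.{u + 1})

/-- Sections over the part over `U` extend. -/
def Extends : Prop :=
  ∀ (W : X.Etale) (t : EtCoh.sect (cSheaf X M) (piece W (over j W))),
    ∃ s : EtCoh.sect (cSheaf X M) W, (cSheaf X M).obj.map (pieceHom W (over j W)).op s = t

theorem range_counit_left (W : X.Etale) :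
    Set.range ((EtaleSite.compEtaleBcAdj j).counit.app W).left.base = (over j W : Set W.left) := by
  have h : ((EtaleSite.compEtaleBcAdj j).counit.app W).left = pullback.fst W.hom j := by
    simp [EtaleSite.compEtaleBcAdj, MorphismProperty.Over.mapPullbackAdj]
  rw [h]
  exact Scheme.Pullback.range_fst W.hom j

theorem isOpenImmersion_counit_left (W : X.Etale) :
    IsOpenImmersion ((EtaleSite.compEtaleBcAdj j).counit.app W).left := by
  have h : ((EtaleSite.compEtaleBcAdj j).counit.app W).left = pullback.fst W.hom j := by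
    simp [EtaleSite.compEtaleBcAdj, MorphismProperty.Over.mapPullbackAdj]
  rw [h]
  exact MorphismProperty.pullback_fst (P := @IsOpenImmersion) _ _ ‹_›

/-- The part over `U` as the source of the counit. -/
theorem exists_iso_piece (W : X.Etale) :
    ∃ e : piece W (over j W) ≅ (EtShriek.compEtale j).obj ((EtCoh.bc j).obj W),
      e.hom ≫ (EtaleSite.compEtaleBcAdj j).counit.app W = pieceHom W (over j W) := by
  let a := (EtaleSite.compEtaleBcAdj j).counit.app W
  have : IsOpenImmersion a.left := isOpenImmersion_counit_left j W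
  have hr : Set.range (over j W).ι.base = Set.range a.left.base :=
    ((over j W).range_ι).trans (range_counit_left j W).symm
  let e₀ := IsOpenImmersion.isoOfRangeEq (over j W).ι a.left hr
  have he : e₀.hom ≫ a.left = (over j W).ι := IsOpenImmersion.isoOfRangeEq_hom_fac _ _ _
  refine ⟨MorphismProperty.Over.isoMk e₀ ?_, MorphismProperty.Over.Hom.ext he⟩
  show e₀.hom ≫ ((EtShriek.compEtale j).obj ((EtCoh.bc j).obj W)).hom = (over j W).ι ≫ W.hom
  exact (congrArg (e₀.hom ≫ ·) (MorphismProperty.Over.w a).symm).trans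
    ((Category.assoc _ _ _).symm.trans (congrArg (· ≫ W.hom) he))

theorem exists_unit_comparison (F : EtCoh.Ab X) (W : X.Etale) :
    ∃ φ : ((EtCoh.push j).obj ((EtCoh.pull j).obj F)).obj.obj (op W) ≅
        F.obj.obj (op (piece W (over j W))),
      (EtDual.unitApp j F).hom.app (op W) ≫ φ.hom = F.obj.map (pieceHom W (over j W)).op := by
  obtain ⟨e, he⟩ := exists_iso_piece j W
  let i := (EtCoh.push j).map ((EtaleSite.pullIsoRestrAlong j).hom.app F)
  have hu : EtDual.unitApp j F ≫ i = (EtaleSite.restrAlongPushAdj j).unit.app F :=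
    Adjunction.unit_leftAdjointUniq_hom_app _ _ F
  let i' := asIso ((sheafToPresheaf X.smallEtaleTopology AddCommGrpCat.{u + 1}).map i)
  refine ⟨i'.app (op W) ≪≫ F.obj.mapIso e.op, ?_⟩
  have h1 : (EtDual.unitApp j F).hom.app (op W) ≫ i.hom.app (op W) =
      F.obj.map ((EtaleSite.compEtaleBcAdj j).counit.app W).op :=
    congrArg (fun q => q.hom.app (op W)) hu
  show (EtDual.unitApp j F).hom.app (op W) ≫ i.hom.app (op W) ≫ F.obj.map e.hom.op = _
  rw [← Category.assoc, h1, ← he, op_comp, Functor.map_comp]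
  rfl

theorem isIso_unit_of_extends (F : EtCoh.Ab X) [Mono (EtDual.unitApp j F)]
    (h : ∀ (W : X.Etale) (t : EtCoh.sect F (piece W (over j W))),
      ∃ s : EtCoh.sect F W, F.obj.map (pieceHom W (over j W)).op s = t) :
    IsIso (EtDual.unitApp j F) := by
  have : ∀ W, IsIso ((EtDual.unitApp j F).hom.app W) := by
    rintro ⟨W⟩
    obtain ⟨φ, hφ⟩ := exists_unit_comparison j F W
    rw [ConcreteCategory.isIso_iff_bijective]
    refine ⟨EtShriekLib.injective_app_of_mono _ W, fun y => ?_⟩
    obtain ⟨s, hs⟩ := h W (φ.hom y)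
    refine ⟨s, (ConcreteCategory.bijective_of_isIso φ.hom).1 ?_⟩
    exact (ConcreteCategory.congr_hom hφ s).trans hs
  have : IsIso ((sheafToPresheaf _ AddCommGrpCat.{u + 1}).map (EtDual.unitApp j F)) :=
    @NatIso.isIso_of_isIso_app _ _ _ _ _ _ (EtDual.unitApp j F).hom this
  exact isIso_of_fully_faithful (sheafToPresheaf _ AddCommGrpCat.{u + 1}) (f := EtDual.unitApp j F)

theorem extends_of_isIso [IsIso (EtDual.unitApp j (cSheaf X M))] : Extends j M := by
  intro W t
  obtain ⟨φ, hφ⟩ := exists_unit_comparison j (cSheaf X M) W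
  have : IsIso ((EtDual.unitApp j (cSheaf X M)).hom.app (op W)) :=
    NatIso.isIso_app_of_isIso
      ((sheafToPresheaf _ AddCommGrpCat.{u + 1}).map (EtDual.unitApp j (cSheaf X M))) _
  obtain ⟨s, hs⟩ := (ConcreteCategory.bijective_of_isIso
    ((EtDual.unitApp j (cSheaf X M)).hom.app (op W) ≫ φ.hom)).2 t
  exact ⟨s, (ConcreteCategory.congr_hom hφ.symm s).trans hs⟩

theorem clopenS_of_extends {c : M} (hc : c ≠ 0) (h : Extends j M) : ClopenS j := by
  intro W C' hC'
  let P := piece W (over j W)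
  let Os : Bool → P.left.Opens := fun b => cond b ⟨C', hC'.2⟩ ⟨C'ᶜ, hC'.compl.2⟩
  obtain ⟨t, ht⟩ := EtaleSite.exists_glue_disjoint (cSheaf X M) Os
    (fun a b hab => by
      cases a <;> cases b <;> simp_all [Os, Opens.ext_iff, disjoint_iff])
    (fun x => by
      by_cases hx : x ∈ C'
      exacts [⟨true, hx⟩, ⟨false, hx⟩])
    (fun b => cst _ (cond b c 0))
  obtain ⟨s, hs⟩ := h W t
  refine ⟨_, isClopen_sectSupp W s, (sectSupp_map _ (pieceHom W (over j W)) s).symm.trans ?_⟩
  rw [hs]
  ext x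
  constructor
  · intro hx
    by_contra hx'
    exact (notMem_sectSupp_iff _ t x).2 ⟨_, pieceHom P (Os false), ⟨(⟨x, hx'⟩ : Os false), rfl⟩,
      (ht false).trans (map_zero ((EtaleSite.ConstSections.etaConst M).app _).hom)⟩ hx
  · intro hx
    have : (⟨x, hx⟩ : Os true) ∈ (pieceHom P (Os true)).left.base ⁻¹' sectSupp (cSheaf X M) P t := by
      rw [← sectSupp_map, ht true]
      exact (sectSupp_cst hc).ge trivial
    exact this

theorem extends_of_clopen [Finite M] (hI : ClopenI j) (hS : ClopenS j) : Extends j M := by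
  intro W t
  let P := piece W (over j W)
  let L : M → Set P.left := fun c => (sectSupp (cSheaf X M) P (t - cst P c))ᶜ
  have hL : ∀ c, IsClopen (L c) := fun c => (isClopen_sectSupp P _).compl
  choose C hC hCL using fun c => hS W (L c) (hL c)
  have hcov : ∀ x : W.left, ∃ c, x ∈ C c := fun x => by
    have hcl : IsClopen (⋃ c, C c) :=
      ⟨isClosed_iUnion_of_finite fun c => (hC c).1, isOpen_iUnion fun c => (hC c).2⟩
    have : (⋃ c, C c)ᶜ = ∅ := hI W _ hcl.compl fun y hy hyU => hy (by
      obtain ⟨c, hc⟩ := exists_level P t ⟨y, hyU⟩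
      exact Set.mem_iUnion.2 ⟨c, (hCL c).ge hc⟩)
    exact Set.mem_iUnion.1 (by_contra fun hx => Set.notMem_empty x (this.le hx))
  obtain ⟨s, hs⟩ := EtaleSite.exists_glue_disjoint (cSheaf X M) (fun c => (⟨C c, (hC c).2⟩ : W.left.Opens))
    (fun c d hcd => by
      have : C c ∩ C d = ∅ := hI W _ ((hC c).inter (hC d)) fun y hy hyU =>
        hcd (level_unique t ((hCL c).le (show (⟨y, hyU⟩ : over j W) ∈ _ from hy.1))
          ((hCL d).le (show (⟨y, hyU⟩ : over j W) ∈ _ from hy.2)))
      exact disjoint_iff.2 (Opens.ext this))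
    hcov (fun c => cst _ c)
  refine ⟨s, sub_eq_zero.1 (eq_zero_of_sectSupp_empty _ _ (Set.eq_empty_iff_forall_notMem.2 fun x hx => ?_))⟩
  obtain ⟨c, hc⟩ := hcov ((over j W).ι x)
  have h1 : x ∉ sectSupp (cSheaf X M) P (t - cst P c) := (hCL c).le hc
  have h2 : (over j W).ι x ∉ sectSupp (cSheaf X M) W (s - cst W c) :=
    (notMem_sectSupp_iff _ _ _).2 ⟨_, pieceHom W ⟨C c, (hC c).2⟩, ⟨(⟨_, hc⟩ : (⟨C c, (hC c).2⟩ : W.left.Opens)), rfl⟩,
      by rw [map_sub, hs c, map_cst, sub_self]⟩
  have h3 : x ∉ sectSupp (cSheaf X M) P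
      ((cSheaf X M).obj.map (pieceHom W (over j W)).op (s - cst W c)) := by
    rw [sectSupp_map]; exact h2
  rw [map_sub, map_cst] at h3
  rw [show (cSheaf X M).obj.map (pieceHom W (over j W)).op s - t =
    ((cSheaf X M).obj.map (pieceHom W (over j W)).op s - cst P c) + -(t - cst P c) from by abel] at hx
  rcases sectSupp_add _ _ _ hx with hx | hx
  · exact h3 hx
  · rw [sectSupp_neg] at hx; exact h1 hx

end Epi

section Covers

theorem range_snd_eq {X' : Scheme.{u}} (g : X' ⟶ X) :
    Set.range (pullback.snd j g).base = g.base ⁻¹' Set.range j.base :=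
  Scheme.Pullback.range_snd j g

/-- A cover of an étale scheme as an étale scheme. -/
abbrev coverEt {X' : Scheme.{u}} (g : X' ⟶ X) [Etale g] (Y : FEt.Cat X') : X.Etale :=
  haveI : Etale Y.hom := Y.prop.2
  Scheme.Etale.mk (Y.hom ≫ g)

theorem range_fst_cover {X' : Scheme.{u}} (g : X' ⟶ X) [Etale g] (Y : FEt.Cat X') :
    Set.range (pullback.fst Y.hom (pullback.snd j g)).base =
      (over j (coverEt g Y) : Set (coverEt g Y).left) := by
  refine (Scheme.Pullback.range_fst Y.hom (pullback.snd j g)).trans ?_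
  rw [range_snd_eq]
  rfl

theorem faithful_restrict (hI : ClopenI j) {X' : Scheme.{u}} (g : X' ⟶ X) [Etale g] :
    (FEt.restrict (pullback.snd j g)).Faithful := by
  refine FEtCat.Full.faithful_of_clopenInj _ fun Y W hW he => hI (coverEt g Y) W hW fun x hx hxU => ?_
  obtain ⟨z, hz⟩ := (range_fst_cover j g Y).ge hxU
  exact Set.notMem_empty z (he.le (show pullback.fst Y.hom (pullback.snd j g) z ∈ W from hz ▸ hx))

theorem full_restrict (hI : ClopenI j) (hS : ClopenS j) {X' : Scheme.{u}} (g : X' ⟶ X) [Etale g] :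
    (FEt.restrict (pullback.snd j g)).Full := by
  refine (FEtCat.Full.full_faithful _ (fun Y W hW he => hI (coverEt g Y) W hW fun x hx hxU => ?_)
    fun Y W' hW' => ?_).1
  · obtain ⟨z, hz⟩ := (range_fst_cover j g Y).ge hxU
    exact Set.notMem_empty z (he.le (show pullback.fst Y.hom (pullback.snd j g) z ∈ W from hz ▸ hx))
  · let O := over j (coverEt g Y)
    let p : pullback Y.hom (pullback.snd j g) ⟶ (coverEt g Y).left := pullback.fst Y.hom (pullback.snd j g)
    have : IsOpenImmersion p := MorphismProperty.pullback_fst (P := @IsOpenImmersion) _ _ inferInstance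
    let e := IsOpenImmersion.isoOfRangeEq O.ι p
      ((Scheme.Opens.range_ι O).trans (range_fst_cover j g Y).symm)
    have he : e.hom ≫ p = O.ι := IsOpenImmersion.isoOfRangeEq_hom_fac _ _ _
    obtain ⟨C, hC, hCW⟩ := hS (coverEt g Y) (e.hom.base ⁻¹' W') (hW'.preimage e.hom.continuous)
    refine ⟨C, hC, Set.ext fun z => ?_⟩
    obtain ⟨y, rfl⟩ := e.hom.surjective z
    have := Set.ext_iff.1 hCW y
    rw [Set.mem_preimage, ← he] at this
    exact this

theorem clopenI_of_faithful
    (h : ∀ (X' : Scheme.{u}) (g : X' ⟶ X) [Etale g], (FEt.restrict (pullback.snd j g)).Faithful) :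
    ClopenI j := by
  intro W C hC hdis
  have : Etale W.hom := W.prop
  let T : FEt.Cat W.left := FEtCat.Basic.mk (𝟙 W.left)
  let Sb : FEt.Cat W.left := FEtCat.Basic.sub T ⟨C, hC.2⟩ hC.1
  let ι : Sb ⟶ T := FEtCat.Basic.subι T ⟨C, hC.2⟩ hC.1
  let Y := FEtCat.Basic.coprodObj T T
  let a : Sb ⟶ Y := ι ≫ (FEtCat.Basic.coprodCofan T T).inl
  let b : Sb ⟶ Y := ι ≫ (FEtCat.Basic.coprodCofan T T).inr
  have hemp : IsEmpty ((FEt.restrict (pullback.snd j W.hom)).obj Sb).left := by
    refine ⟨fun z => ?_⟩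
    let z' : (pullback Sb.hom (pullback.snd j W.hom) : Scheme.{u}) := z
    have h1 := congrArg (fun q => q.base z') (pullback.condition (f := Sb.hom) (g := pullback.snd j W.hom))
    have h2 : (ι.left.base (pullback.fst Sb.hom (pullback.snd j W.hom) z')) ∈ C :=
      (show (⟨C, hC.2⟩ : W.left.Opens) from pullback.fst Sb.hom (pullback.snd j W.hom) z').2
    refine hdis _ h2 ?_
    show W.hom.base _ ∈ Set.range j.base
    exact (range_snd_eq j W.hom).le ⟨pullback.snd Sb.hom (pullback.snd j W.hom) z', h1.symm⟩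
  have heq : a = b := by
    have := h W.left W.hom
    refine (FEt.restrict (pullback.snd j W.hom)).map_injective (FEtCat.Basic.hom_ext ?_)
    exact (isInitialOfIsEmpty (X := _)).hom_ext _ _
  refine Set.eq_empty_iff_forall_notMem.2 fun x hx => ?_
  have e := congrArg (fun q => q.left.base (⟨x, hx⟩ : (⟨C, hC.2⟩ : W.left.Opens))) heq
  exact (Set.disjoint_iff_forall_ne.mp (isCompl_range_inl_inr W.left W.left).disjoint)
    ⟨_, rfl⟩ ⟨_, rfl⟩ e

theorem clopenS_of_full
    (h : ∀ (X' : Scheme.{u}) (g : X' ⟶ X) [Etale g], (FEt.restrict (pullback.snd j g)).Full) :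
    ClopenS j := by
  intro W C' hC'
  have : Etale W.hom := W.prop
  let O := over j W
  let T : FEt.Cat W.left := FEtCat.Basic.mk (𝟙 W.left)
  let Y := FEtCat.Basic.coprodObj T T
  let j' := pullback.snd j W.hom
  let p := pullback.fst (𝟙 W.left) j'
  have hr : Set.range p.base = (O : Set W.left) := range_fst_cover j W.hom T
  let e := IsOpenImmersion.isoOfRangeEq p O.ι (hr.trans (Scheme.Opens.range_ι O).symm)
  have he : e.hom ≫ O.ι = p := IsOpenImmersion.isoOfRangeEq_hom_fac _ _ _
  let P : Scheme.{u} := pullback (𝟙 W.left) j'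
  let D : Set P := e.hom.base ⁻¹' C'
  have hD : IsClopen D := hC'.preimage e.hom.continuous
  let A : P.Opens := ⟨D, hD.2⟩
  let B : P.Opens := ⟨Dᶜ, hD.compl.2⟩
  have hAB : IsCompl A.ι.opensRange B.ι.opensRange := by
    rw [Scheme.Opens.opensRange_ι, Scheme.Opens.opensRange_ι]
    refine ⟨disjoint_iff.2 (Opens.ext (Set.inter_compl_self D)), codisjoint_iff.2 (Opens.ext (Set.union_compl_self D))⟩
  obtain ⟨hc⟩ := nonempty_isColimit_binaryCofanMk_of_isCompl A.ι B.ι hAB
  let a : P ⟶ Y.left := BinaryCofan.IsColimit.desc hc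
    (A.ι ≫ p ≫ (coprod.inl : W.left ⟶ W.left ⨿ W.left)) (B.ι ≫ p ≫ coprod.inr)
  have haA : A.ι ≫ a = A.ι ≫ p ≫ coprod.inl := BinaryCofan.IsColimit.inl_desc hc _ _
  have haB : B.ι ≫ a = B.ι ≫ p ≫ coprod.inr := BinaryCofan.IsColimit.inr_desc hc _ _
  have haY : a ≫ Y.hom = pullback.snd (𝟙 W.left) j' ≫ j' := by
    rw [← pullback.condition]
    refine BinaryCofan.IsColimit.hom_ext hc ?_ ?_
    · show A.ι ≫ a ≫ coprod.desc (𝟙 W.left) (𝟙 W.left) = _
      exact (Category.assoc _ _ _).symm.trans
        ((congrArg (· ≫ coprod.desc (𝟙 W.left) (𝟙 W.left)) haA).trans ((Category.assoc _ _ _).trans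
          (congrArg (A.ι ≫ ·) ((Category.assoc _ _ _).trans (congrArg (p ≫ ·) (coprod.inl_desc _ _))))))
    · show B.ι ≫ a ≫ coprod.desc (𝟙 W.left) (𝟙 W.left) = _
      exact (Category.assoc _ _ _).symm.trans
        ((congrArg (· ≫ coprod.desc (𝟙 W.left) (𝟙 W.left)) haB).trans ((Category.assoc _ _ _).trans
          (congrArg (B.ι ≫ ·) ((Category.assoc _ _ _).trans (congrArg (p ≫ ·) (coprod.inr_desc _ _))))))
  let ψ : (FEt.restrict j').obj T ⟶ (FEt.restrict j').obj Y :=
    FEtCat.Basic.homMk (pullback.lift a (pullback.snd (𝟙 W.left) j') haY) (pullback.lift_snd _ _ _)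
  have := h W.left W.hom
  obtain ⟨φ, hφ⟩ := (FEt.restrict j').map_surjective ψ
  have key : p ≫ φ.left = a := by
    have h1 := congrArg (fun q => q.left ≫ pullback.fst Y.hom j') hφ
    simp [FEt.restrict] at h1
    refine Eq.trans ?_ (h1.trans (pullback.lift_fst _ _ _))
    exact (pullback.lift_fst _ _ _).symm
  let f : W.left ⟶ W.left ⨿ W.left := φ.left
  let C : Set W.left := f.base ⁻¹' Set.range (coprod.inl : W.left ⟶ W.left ⨿ W.left)
  have hC : IsClopen C := by
    refine IsClopen.preimage ?_ f.continuous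
    refine ⟨?_, (coprod.inl : W.left ⟶ W.left ⨿ W.left).isOpenEmbedding.isOpen_range⟩
    rw [← (isCompl_range_inl_inr W.left W.left).symm.compl_eq]
    exact (coprod.inr : W.left ⟶ W.left ⨿ W.left).isOpenEmbedding.isOpen_range.isClosed_compl
  refine ⟨C, hC, Set.ext fun o => ?_⟩
  obtain ⟨z, rfl⟩ := e.hom.surjective o
  have hz : f.base (O.ι.base (e.hom.base z)) = a.base z := by
    rw [← key, ← he]; rfl
  refine Iff.trans (b := f.base (O.ι.base (e.hom.base z)) ∈
    Set.range (coprod.inl : W.left ⟶ W.left ⨿ W.left)) Iff.rfl ?_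
  rw [hz]
  by_cases hzD : z ∈ D
  · exact iff_of_true ⟨_, (congrArg (fun q => q.base (⟨z, hzD⟩ : A)) haA).symm⟩ hzD
  · refine iff_of_false ?_ hzD
    rintro ⟨w, hw⟩
    exact (Set.disjoint_iff_forall_ne.mp (isCompl_range_inl_inr W.left W.left).disjoint)
      ⟨w, rfl⟩ ⟨_, rfl⟩ (hw.trans (congrArg (fun q => q.base (⟨z, hzD⟩ : B)) haB))

end Covers

end Groth.Agent.EtDepthLib
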