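import Groth.Agent.EtSupp.LocCoh
import Groth.Agent.EtSupp.EtaleBC
import Groth.Agent.EtaleSite.HpullSeq
import Groth.Agent.EtaleSite.HpullComp
import Groth.Agent.SiteCoh.ConstFree
import Groth.Agent.RDerLES
import Groth.Prelude.Def_EtDepth

/-!
# Depth and restriction maps

* `Cond j F n`: restriction `H^p(X, F) → H^p(U, F)` bijective for `p + 1 < n`, injective for
  `p + 1 = n`.
* `cond_of_depthGE`, `depthGE_of_forall`: relation with `EtDepth.DepthGE`.
-/

set_option autoImplicit false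

universe u

open CategoryTheory CategoryTheory.Limits AlgebraicGeometry Opposite

namespace Groth.Agent.EtDepthLib

open EtaleSite.HpullComp (HF_map_bijective Hpull_mk₀)
open EtaleSite.HpullSeq (Hpull_postcomp Hpull_extClass)

variable {X U : Scheme.{u}} (j : U ⟶ X) [IsOpenImmersion j]

instance preservesFiniteLimits_pull_openImm : PreservesFiniteLimits (EtCoh.pull j) :=
  preservesFiniteLimits_of_natIso (EtaleSite.pullIsoRestrAlong j).symm

/-- Restriction to the open is bijective below `n - 1` and injective in degree `n - 1`. -/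
def Cond (F : EtCoh.Ab X) (n : ℕ) : Prop :=
  (∀ p : ℕ, p + 1 < n → Function.Bijective (EtCore.Hpull j F p)) ∧
    ∀ p : ℕ, p + 1 = n → Function.Injective (EtCore.Hpull j F p)

theorem cond_congr {F G : EtCoh.Ab X} (e : F ≅ G) (n : ℕ) (h : Cond j F n) : Cond j G n := by
  have key : ∀ p, (EtCore.Hpull j G p : _ → _) ∘
      (fun x : EtCoh.H X F p => x.comp (Abelian.Ext.mk₀ e.hom) (add_zero p)) =
      (fun y : EtCoh.H U ((EtCoh.pull j).obj F) p =>
        y.comp (Abelian.Ext.mk₀ ((EtCoh.pull j).map e.hom)) (add_zero p)) ∘ EtCore.Hpull j F p :=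
    fun p => funext fun x => Hpull_postcomp j e.hom p x
  constructor
  · intro p hp
    rw [← Function.Bijective.of_comp_iff _ (HF_map_bijective e.hom), key]
    exact (HF_map_bijective _).comp (h.1 p hp)
  · intro p hp
    rw [← Function.Injective.of_comp_iff' _ (HF_map_bijective e.hom), key]
    exact (HF_map_bijective _).1.comp (h.2 p hp)

section Zero

/-- Sections with support form a left exact functor. -/
theorem preservesFiniteLimits_secSupp : PreservesFiniteLimits (EtDual.secSupp j) := by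
  refine ((EtDual.secSupp j).preservesFiniteLimits_iff_forall_exact_map_and_mono).mpr fun S hS => ?_
  have := hS.mono_f
  let ι : ∀ F, (EtDual.secSupp j).obj F ⟶ F := fun F => kernel.ι (EtDual.unitApp j F)
  have hι : ∀ {F G : EtCoh.Ab X} (a : F ⟶ G), (EtDual.secSupp j).map a ≫ ι G = ι F ≫ a := fun a =>
    (EtSupp.suppι j).naturality a
  have hm : Mono ((EtDual.secSupp j).map S.f) := by
    have : Mono ((EtDual.secSupp j).map S.f ≫ ι S.X₂) := by rw [hι]; infer_instance
    exact mono_of_mono _ (ι S.X₂)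
  refine ⟨?_, hm⟩
  have hmS : Mono (S.map (EtDual.secSupp j)).f := hm
  refine ShortComplex.exact_of_f_is_kernel _ (KernelFork.IsLimit.ofι' _ _ fun {A} k hk => ?_)
  let k' : A ⟶ (EtDual.secSupp j).obj S.X₂ := k
  have hk0 : k' ≫ (EtDual.secSupp j).map S.g = 0 := hk
  have hk' : (k' ≫ ι S.X₂) ≫ S.g = 0 := by
    rw [Category.assoc, ← hι, ← Category.assoc, hk0, zero_comp]
  let l := hS.exact.lift (k' ≫ ι S.X₂) hk'
  have hl : l ≫ S.f = k' ≫ ι S.X₂ := hS.exact.lift_f _ hk'
  have : Mono ((EtCoh.pull j ⋙ EtCoh.push j).map S.f) := inferInstance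
  have hl' : l ≫ EtDual.unitApp j S.X₁ = 0 := by
    rw [← cancel_mono ((EtCoh.pull j ⋙ EtCoh.push j).map S.f), Category.assoc, zero_comp]
    refine (congrArg (l ≫ ·) ((EtCoh.pullPushAdj j).unit.naturality S.f).symm).trans ?_
    rw [← Category.assoc]
    refine (congrArg (· ≫ (EtCoh.pullPushAdj j).unit.app S.X₂) hl).trans ?_
    rw [Category.assoc]
    exact (congrArg (k' ≫ ·) (kernel.condition _)).trans comp_zero
  let l' : A ⟶ (EtDual.secSupp j).obj S.X₁ := kernel.lift _ l hl'
  refine ⟨l', show l' ≫ (EtDual.secSupp j).map S.f = k' from ?_⟩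
  rw [← cancel_mono (ι S.X₂), Category.assoc, hι, ← Category.assoc,
    show l' ≫ ι S.X₁ = l from kernel.lift_ι _ l hl', hl]

theorem isZero_locCoh_zero_iff (F : EtCoh.Ab X) :
    IsZero ((EtDual.locCoh j 0).obj F) ↔ Mono (EtDual.unitApp j F) := by
  have := preservesFiniteLimits_secSupp j
  refine ((EtDual.secSupp j).rightDerivedZeroIsoSelf.app F).isZero_iff.trans ⟨fun h => ?_, fun h => ?_⟩
  · exact Preadditive.mono_of_kernel_zero (h.eq_zero_of_src _)
  · exact IsZero.of_mono_eq_zero (kernel.ι (EtDual.unitApp j F)) (kernel.ι_of_mono _)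

theorem isZero_locCoh_of_isIso (I : EtCoh.Ab X) [Injective I] [IsIso (EtDual.unitApp j I)] (p : ℕ) :
    IsZero ((EtDual.locCoh j p).obj I) := by
  rcases p with _ | p
  · exact (isZero_locCoh_zero_iff j I).mpr inferInstance
  · exact EtSupp.isZero_locCoh_of_injective j I _ (Nat.succ_pos p)

theorem isIso_unit_iff (F : EtCoh.Ab X) :
    IsIso (EtDual.unitApp j F) ↔
      IsZero ((EtDual.locCoh j 0).obj F) ∧ IsZero ((EtDual.locCoh j 1).obj F) := by
  obtain ⟨e⟩ := EtSupp.nonempty_cokernel_iso_locCoh_one j F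
  rw [isZero_locCoh_zero_iff, ← e.isZero_iff]
  refine ⟨fun _ => ⟨inferInstance, isZero_cokernel_of_epi _⟩, fun ⟨_, h⟩ => ?_⟩
  have : Epi (EtDual.unitApp j F) := Preadditive.epi_of_cokernel_zero (h.eq_zero_of_tgt _)
  exact isIso_of_mono_of_epi _

theorem isIso_unit_push (J : EtCoh.Ab U) : IsIso (EtDual.unitApp j ((EtCoh.push j).obj J)) := by
  have := EtaleSite.isIso_counit_pullPush j J
  have h := (EtCoh.pullPushAdj j).right_triangle_components J
  have : IsIso ((EtCoh.pullPushAdj j).unit.app ((EtCoh.push j).obj J) ≫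
      (EtCoh.push j).map ((EtCoh.pullPushAdj j).counit.app J)) :=
    Eq.mpr (congrArg (fun k => IsIso k) h) (IsIso.id _)
  exact IsIso.of_isIso_comp_right _ ((EtCoh.push j).map ((EtCoh.pullPushAdj j).counit.app J))

/-- A sheaf with no sections supported off `U` embeds in an injective `I` with `I = j_* j⁻¹ I`. -/
theorem exists_embedding (F : EtCoh.Ab X) [Mono (EtDual.unitApp j F)] :
    ∃ S : ShortComplex (EtCoh.Ab X), S.ShortExact ∧ S.X₁ = F ∧ Injective S.X₂ ∧
      IsIso (EtDual.unitApp j S.X₂) := by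
  let J := Injective.under ((EtCoh.pull j).obj F)
  let u : F ⟶ (EtCoh.push j).obj J :=
    EtDual.unitApp j F ≫ (EtCoh.push j).map (Injective.ι ((EtCoh.pull j).obj F))
  refine ⟨ShortComplex.mk u (cokernel.π u) (cokernel.condition u), ?_, rfl,
    EtSupp.injective_push j J, isIso_unit_push j J⟩
  exact { exact := ShortComplex.exact_of_g_is_cokernel _ (cokernelIsCokernel u)
          mono_f := (inferInstance : Mono u) }

theorem depthGE_succ_iff {S : ShortComplex (EtCoh.Ab X)} (hS : S.ShortExact) [Injective S.X₂]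
    [IsIso (EtDual.unitApp j S.X₂)] (h0 : Mono (EtDual.unitApp j S.X₁)) (n : ℕ) :
    EtDepth.DepthGE j S.X₁ (n + 1) ↔ EtDepth.DepthGE j S.X₃ n := by
  let Δ := RDerLES.derivedLES (EtDual.secSupp j)
  have key : ∀ p, IsZero ((EtDual.locCoh j (p + 1)).obj S.X₁) ↔
      IsZero ((EtDual.locCoh j p).obj S.X₃) := fun p => by
    have h1 := isZero_locCoh_of_isIso j S.X₂ p
    have h2 := isZero_locCoh_of_isIso j S.X₂ (p + 1)
    constructor
    · exact fun h => (Δ.exact₃ S hS p (p + 1) rfl).isZero_of_both_isZero h1 h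
    · exact fun h => (Δ.exact₁ S hS p (p + 1) rfl).isZero_of_both_isZero h h2
  constructor
  · exact fun h p hp => (key p).1 (h (p + 1) (by omega))
  · intro h p hp
    rcases p with _ | p
    · exact (isZero_locCoh_zero_iff j _).mpr h0
    · exact (key p).2 (h p (by omega))

theorem Hpull_zero_injective_of_mono (F : EtCoh.Ab X) (h : Mono (EtDual.unitApp j F)) :
    Function.Injective (EtCore.Hpull j F 0) := by
  intro a b hab
  obtain ⟨x, rfl⟩ := (Abelian.Ext.mk₀_bijective _ _).2 a
  obtain ⟨y, rfl⟩ := (Abelian.Ext.mk₀_bijective _ _).2 b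
  have h1 : (EtCore.pullConst j ℤ).inv ≫ (EtCoh.pull j).map x =
      (EtCore.pullConst j ℤ).inv ≫ (EtCoh.pull j).map y :=
    (Abelian.Ext.mk₀_bijective _ _).1 (((Hpull_mk₀ j x).symm.trans hab).trans (Hpull_mk₀ j y))
  have h2 := congrArg ((EtCoh.pullPushAdj j).homEquiv _ _) ((cancel_epi _).1 h1)
  simp only [Adjunction.homEquiv_unit] at h2
  rw [Adjunction.unit_naturality, Adjunction.unit_naturality, cancel_mono] at h2
  rw [h2]

theorem Hpull_zero_bijective_of_isIso (F : EtCoh.Ab X) (h : IsIso (EtDual.unitApp j F)) :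
    Function.Bijective (EtCore.Hpull j F 0) := by
  refine ⟨Hpull_zero_injective_of_mono j F inferInstance, fun b => ?_⟩
  obtain ⟨z, rfl⟩ := (Abelian.Ext.mk₀_bijective _ _).2 b
  let w : (EtCoh.pull j).obj (EtCoh.const X ℤ) ⟶ (EtCoh.pull j).obj F :=
    (EtCore.pullConst j ℤ).hom ≫ z
  let x : EtCoh.const X ℤ ⟶ F :=
    ((EtCoh.pullPushAdj j).homEquiv _ _ w) ≫ inv (EtDual.unitApp j F)
  refine ⟨Abelian.Ext.mk₀ x, ?_⟩
  rw [Hpull_mk₀]
  have hx : (EtCoh.pull j).map x = w := by
    apply ((EtCoh.pullPushAdj j).homEquiv _ _).injective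
    rw [Adjunction.homEquiv_unit, Adjunction.unit_naturality]
    show (_ ≫ inv (EtDual.unitApp j F)) ≫ EtDual.unitApp j F = _
    rw [Category.assoc, IsIso.inv_hom_id, Category.comp_id]
  rw [hx, Iso.inv_hom_id_assoc]

theorem cond_succ_iff {S : ShortComplex (EtCoh.Ab X)} (hS : S.ShortExact) [Injective S.X₂]
    [IsIso (EtDual.unitApp j S.X₂)] {n : ℕ} (hn : 1 ≤ n) :
    Cond j S.X₁ (n + 1) ↔ Function.Injective (EtCore.Hpull j S.X₁ 0) ∧ Cond j S.X₃ n := by
  have hSU := hS.map_of_exact (EtCoh.pull j)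
  have hI : Injective (S.map (EtCoh.pull j)).X₂ := EtSupp.injective_pull j S.X₂
  have r0 := Hpull_zero_bijective_of_isIso j S.X₂ inferInstance
  let r := fun (i : ℕ) (G : EtCoh.Ab X) => EtCore.Hpull j G i
  let δ : ∀ p, EtCoh.H X S.X₃ p → EtCoh.H X S.X₁ (p + 1) := fun p e => e.comp hS.extClass rfl
  let δU : ∀ p, EtCoh.H U (S.map (EtCoh.pull j)).X₃ p → EtCoh.H U (S.map (EtCoh.pull j)).X₁ (p + 1) :=
    fun p e => e.comp hSU.extClass rfl
  have comm : ∀ p e, EtCore.Hpull j S.X₁ (p + 1) (δ p e) = δU p (EtCore.Hpull j S.X₃ p e) :=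
    fun p e => Hpull_extClass j hS p e
  have δzero : ∀ p, δ p 0 = 0 := fun p => Abelian.Ext.zero_comp ..
  have surj : ∀ p, Function.Surjective (δ p) := fun p x =>
    Abelian.Ext.covariant_sequence_exact₁ _ hS x (Abelian.Ext.eq_zero_of_injective _) rfl
  have surjU : ∀ p, Function.Surjective (δU p) := fun p x =>
    Abelian.Ext.covariant_sequence_exact₁ _ hSU x (Abelian.Ext.eq_zero_of_injective _) rfl
  have ker : ∀ p e, δ p e = 0 → ∃ i : EtCoh.H X S.X₂ p,
      i.comp (Abelian.Ext.mk₀ S.g) (add_zero p) = e :=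
    fun p e he => Abelian.Ext.covariant_sequence_exact₃ _ hS e rfl he
  have kerU : ∀ p e, δU p e = 0 → ∃ i : EtCoh.H U (S.map (EtCoh.pull j)).X₂ p,
      i.comp (Abelian.Ext.mk₀ (S.map (EtCoh.pull j)).g) (add_zero p) = e :=
    fun p e he => Abelian.Ext.covariant_sequence_exact₃ _ hSU e rfl he
  have inj : ∀ p, Function.Injective (δ (p + 1)) := fun p a b hab => by
    obtain ⟨i, hi⟩ := ker (p + 1) (a - b) (by
      show (a - b).comp hS.extClass rfl = 0
      rw [sub_eq_add_neg, Abelian.Ext.add_comp, Abelian.Ext.neg_comp, ← sub_eq_add_neg]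
      exact sub_eq_zero.2 hab)
    rw [Abelian.Ext.eq_zero_of_injective i, Abelian.Ext.zero_comp] at hi
    exact sub_eq_zero.1 hi.symm
  have injU : ∀ p, Function.Injective (δU (p + 1)) := fun p a b hab => by
    obtain ⟨i, hi⟩ := kerU (p + 1) (a - b) (by
      show (a - b).comp hSU.extClass rfl = 0
      rw [sub_eq_add_neg, Abelian.Ext.add_comp, Abelian.Ext.neg_comp, ← sub_eq_add_neg]
      exact sub_eq_zero.2 hab)
    rw [Abelian.Ext.eq_zero_of_injective i, Abelian.Ext.zero_comp] at hi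
    exact sub_eq_zero.1 hi.symm
  -- degrees `≥ 1`
  have hcomp : ∀ p, (EtCore.Hpull j S.X₁ (p + 1) : _ → _) ∘ δ p =
      δU p ∘ EtCore.Hpull j S.X₃ p := fun p => funext (comm p)
  have shiftInj : ∀ p, Function.Injective (EtCore.Hpull j S.X₁ (p + 2)) ↔
      Function.Injective (EtCore.Hpull j S.X₃ (p + 1)) := fun p => by
    rw [← Function.Injective.of_comp_iff' _ ⟨inj p, surj (p + 1)⟩, hcomp]
    exact Function.Injective.of_comp_iff (injU p) _
  have shiftBij : ∀ p, Function.Bijective (EtCore.Hpull j S.X₁ (p + 2)) ↔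
      Function.Bijective (EtCore.Hpull j S.X₃ (p + 1)) := fun p => by
    rw [← Function.Bijective.of_comp_iff _ ⟨inj p, surj (p + 1)⟩, hcomp]
    exact Function.Bijective.of_comp_iff' ⟨injU p, surjU (p + 1)⟩ _
  -- degree `0`
  have natg : ∀ i : EtCoh.H X S.X₂ 0, EtCore.Hpull j S.X₃ 0 (i.comp (Abelian.Ext.mk₀ S.g) (add_zero 0)) =
      (EtCore.Hpull j S.X₂ 0 i).comp (Abelian.Ext.mk₀ (S.map (EtCoh.pull j)).g) (add_zero 0) :=
    fun i => Hpull_postcomp j S.g 0 i
  have a1 : Function.Injective (EtCore.Hpull j S.X₃ 0) →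
      Function.Injective (EtCore.Hpull j S.X₁ 1) := fun ha => by
    rw [injective_iff_map_eq_zero]
    intro e he
    obtain ⟨g, rfl⟩ := surj 0 e
    obtain ⟨iU, hiU⟩ := kerU 0 _ ((comm 0 g).symm.trans he)
    obtain ⟨i, rfl⟩ := r0.2 iU
    have : i.comp (Abelian.Ext.mk₀ S.g) (add_zero 0) = g := ha ((natg i).trans hiU)
    rw [← this]
    show (i.comp (Abelian.Ext.mk₀ S.g) (add_zero 0)).comp hS.extClass rfl = 0
    rw [Abelian.Ext.comp_assoc_of_second_deg_zero, hS.comp_extClass, Abelian.Ext.comp_zero]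
  have a2 : Function.Injective (EtCore.Hpull j S.X₃ 0) →
      Function.Surjective (EtCore.Hpull j S.X₁ 0) := fun ha fU => by
    obtain ⟨i, hi⟩ := r0.2 (fU.comp (Abelian.Ext.mk₀ (S.map (EtCoh.pull j)).f) (add_zero 0))
    have h0 : i.comp (Abelian.Ext.mk₀ S.g) (add_zero 0) = 0 := ha (by
      refine ((natg i).trans ?_).trans (map_zero _).symm
      refine (congrArg (fun z => Abelian.Ext.comp z (Abelian.Ext.mk₀ (S.map (EtCoh.pull j)).g)
        (add_zero 0)) hi).trans ?_
      refine (Abelian.Ext.comp_assoc_of_second_deg_zero fU _ _ _).trans ?_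
      exact (congrArg (fun z => Abelian.Ext.comp fU z (add_zero 0))
        ((Abelian.Ext.mk₀_comp_mk₀ _ _).trans ((congrArg Abelian.Ext.mk₀ (S.map (EtCoh.pull j)).zero).trans
          (Abelian.Ext.mk₀_zero ..)))).trans (Abelian.Ext.comp_zero ..))
    obtain ⟨f, rfl⟩ := Abelian.Ext.covariant_sequence_exact₂ _ hS i h0
    refine ⟨f, ?_⟩
    have := hSU.mono_f
    apply Abelian.Ext.postcomp_mk₀_injective_of_mono (EtCoh.const U ℤ) (S.map (EtCoh.pull j)).f
    exact (Hpull_postcomp j S.f 0 f).symm.trans hi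
  have a3 : Function.Bijective (EtCore.Hpull j S.X₁ 0) → Function.Injective (EtCore.Hpull j S.X₁ 1) →
      Function.Injective (EtCore.Hpull j S.X₃ 0) := fun hb h1 => by
    rw [injective_iff_map_eq_zero]
    intro g hg
    have hδ : δ 0 g = 0 := h1 (by
      rw [comm, hg, map_zero]; exact Abelian.Ext.zero_comp ..)
    obtain ⟨i, rfl⟩ := ker 0 g hδ
    rw [natg] at hg
    obtain ⟨fU, hfU⟩ := Abelian.Ext.covariant_sequence_exact₂ _ hSU (EtCore.Hpull j S.X₂ 0 i) hg
    obtain ⟨f, rfl⟩ := hb.2 fU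
    have : f.comp (Abelian.Ext.mk₀ S.f) (add_zero 0) = i :=
      r0.1 ((Hpull_postcomp j S.f 0 f).trans hfU)
    rw [← this, Abelian.Ext.comp_assoc_of_second_deg_zero, Abelian.Ext.mk₀_comp_mk₀,
        ShortComplex.zero, Abelian.Ext.mk₀_zero, Abelian.Ext.comp_zero]
  have a4 : Function.Surjective (EtCore.Hpull j S.X₁ 1) → Function.Surjective (EtCore.Hpull j S.X₃ 0) :=
    fun h1 gU => by
    obtain ⟨e, he⟩ := h1 (δU 0 gU)
    obtain ⟨g, rfl⟩ := surj 0 e
    have : δU 0 (gU - EtCore.Hpull j S.X₃ 0 g) = 0 := by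
      show (gU - EtCore.Hpull j S.X₃ 0 g).comp hSU.extClass rfl = 0
      rw [sub_eq_add_neg, Abelian.Ext.add_comp, Abelian.Ext.neg_comp, ← sub_eq_add_neg]
      exact sub_eq_zero.2 (he.symm.trans (comm 0 g))
    obtain ⟨iU, hiU⟩ := kerU 0 _ this
    obtain ⟨i, rfl⟩ := r0.2 iU
    refine ⟨g + i.comp (Abelian.Ext.mk₀ S.g) (add_zero 0), ?_⟩
    refine (map_add _ _ _).trans ((congrArg (EtCore.Hpull j S.X₃ 0 g + ·) ((natg i).trans hiU)).trans ?_)
    exact add_sub_cancel _ _
  have a5 : Function.Surjective (EtCore.Hpull j S.X₃ 0) → Function.Surjective (EtCore.Hpull j S.X₁ 1) :=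
    fun ha eU => by
    obtain ⟨gU, rfl⟩ := surjU 0 eU
    obtain ⟨g, rfl⟩ := ha gU
    exact ⟨δ 0 g, comm 0 g⟩
  constructor
  · rintro ⟨hb, hi⟩
    have h0 : Function.Bijective (EtCore.Hpull j S.X₁ 0) := hb 0 (by omega)
    refine ⟨h0.1, fun p hp => ?_, fun p hp => ?_⟩
    · rcases p with _ | p
      · have h1 := hb 1 (by omega)
        exact ⟨a3 h0 h1.1, a4 h1.2⟩
      · exact (shiftBij p).1 (hb (p + 2) (by omega))
    · rcases p with _ | p
      · exact a3 h0 (hi 1 (by omega))
      · exact (shiftInj p).1 (hi (p + 2) (by omega))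
  · rintro ⟨h0, hb, hi⟩
    have hA : Function.Injective (EtCore.Hpull j S.X₃ 0) := by
      rcases Nat.lt_or_ge 1 n with h | h
      · exact (hb 0 (by omega)).1
      · exact hi 0 (by omega)
    refine ⟨fun p hp => ?_, fun p hp => ?_⟩
    · rcases p with _ | _ | p
      · exact ⟨h0, a2 hA⟩
      · exact ⟨a1 hA, a5 (hb 0 (by omega)).2⟩
      · exact (shiftBij p).2 (hb (p + 1) (by omega))
    · rcases p with _ | _ | p
      · exact h0
      · exact a1 hA
      · exact (shiftInj p).2 (hi (p + 1) (by omega))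

theorem cond_zero (F : EtCoh.Ab X) : Cond j F 0 := ⟨fun _ h => absurd h (by omega), fun _ h => absurd h (by omega)⟩

theorem cond_one_iff (F : EtCoh.Ab X) : Cond j F 1 ↔ Function.Injective (EtCore.Hpull j F 0) :=
  ⟨fun h => h.2 0 rfl, fun h => ⟨fun _ hp => absurd hp (by omega), fun p hp => by
    obtain rfl : p = 0 := by omega
    exact h⟩⟩

/-- Depth at least `n` gives the restriction property. -/
theorem cond_of_depthGE : ∀ (n : ℕ) (F : EtCoh.Ab X), EtDepth.DepthGE j F n → Cond j F n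
  | 0, F, _ => cond_zero j F
  | 1, F, h => (cond_one_iff j F).2
      (Hpull_zero_injective_of_mono j F ((isZero_locCoh_zero_iff j F).1 (h 0 Nat.one_pos)))
  | n + 2, F, h => by
    have hm := (isZero_locCoh_zero_iff j F).1 (h 0 (by omega))
    obtain ⟨S, hS, rfl, _, _⟩ := exists_embedding j F
    exact (cond_succ_iff j hS (by omega)).2 ⟨Hpull_zero_injective_of_mono j _ hm,
      cond_of_depthGE (n + 1) _ ((depthGE_succ_iff j hS hm (n + 1)).1 h)⟩

end Zero

section Etale

variable {X' : Scheme.{u}} (g : X' ⟶ X) [Etale g]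

theorem depthGE_restr (F : EtCoh.Ab X) (n : ℕ) (h : EtDepth.DepthGE j F n) :
    EtDepth.DepthGE (pullback.snd j g) ((EtShriek.restrAlong g).obj F) n := fun p hp => by
  obtain ⟨e⟩ := EtSupp.EtaleBC.nonempty_locCoh_restr_iso g j (pullback.snd j g)
    (Scheme.Pullback.range_snd j g) p F
  exact ((EtShriek.restrAlong g).map_isZero (h p hp)).of_iso e.symm

theorem isIso_unit_restr (F : EtCoh.Ab X) [IsIso (EtDual.unitApp j F)] :
    IsIso (EtDual.unitApp (pullback.snd j g) ((EtShriek.restrAlong g).obj F)) := by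
  rw [isIso_unit_iff]
  have h := (isIso_unit_iff j F).1 inferInstance
  have hd : EtDepth.DepthGE j F 2 := fun p hp => by
    rcases p with _ | _ | p
    exacts [h.1, h.2, absurd hp (by omega)]
  exact ⟨depthGE_restr j g F 2 hd 0 (by omega), depthGE_restr j g F 2 hd 1 (by omega)⟩

/-- If restriction is injective in degree `0` then sections supported off the open vanish. -/
theorem eq_zero_of_injective (F : EtCoh.Ab X) (h : Function.Injective (EtCore.Hpull j F 0))
    (t : F.obj.obj (op (EtCoh.top X))) (ht : (EtDual.unitApp j F).hom.app (op (EtCoh.top X)) t = 0) :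
    t = 0 := by
  let e := (EtCore.constAdj X).homEquiv (AddCommGrpCat.of (ULift.{u + 1} ℤ))
  let w : AddCommGrpCat.of (ULift.{u + 1} ℤ) ⟶ F.obj.obj (op (EtCoh.top X)) :=
    AddCommGrpCat.ofHom ((zmultiplesHom _ t).comp AddEquiv.ulift.toAddMonoidHom)
  have hw : w (ULift.up 1) = t := one_zsmul t
  let x : EtCoh.const X ℤ ⟶ F := (e F).symm w
  have hx : x ≫ EtDual.unitApp j F = 0 := by
    apply (e _).injective
    rw [(EtCore.constAdj X).homEquiv_naturality_right, Equiv.apply_symm_apply,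
      Adjunction.homEquiv_unit, Functor.map_zero, comp_zero]
    refine AddCommGrpCat.hom_ext (AddMonoidHom.ext fun n => ?_)
    show (EtDual.unitApp j F).hom.app (op (EtCoh.top X)) (w n) = 0
    show (EtDual.unitApp j F).hom.app (op (EtCoh.top X)) (n.down • t) = 0
    rw [map_zsmul, ht, smul_zero]
  have hp : (EtCoh.pull j).map x = 0 := by
    apply ((EtCoh.pullPushAdj j).homEquiv _ _).injective
    rw [Adjunction.homEquiv_unit, Adjunction.homEquiv_unit, Adjunction.unit_naturality,
      Functor.map_zero, comp_zero]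
    exact hx
  have : Abelian.Ext.mk₀ x = (0 : EtCoh.H X F 0) := h (by
    rw [Hpull_mk₀, hp, comp_zero, Abelian.Ext.mk₀_zero, map_zero])
  rw [← Abelian.Ext.mk₀_zero] at this
  have hx0 : x = 0 := (Abelian.Ext.mk₀_bijective _ _).1 this
  have : w = 0 := by
    rw [← (e F).apply_symm_apply w, show (e F).symm w = x from rfl, hx0, Adjunction.homEquiv_unit,
      Functor.map_zero, comp_zero]
  rw [← hw, this]
  rfl

end Etale

theorem mono_unit_of_forall (F : EtCoh.Ab X)
    (h : ∀ (X' : Scheme.{u}) (g : X' ⟶ X) [Etale g],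
      Function.Injective (EtCore.Hpull (pullback.snd j g) ((EtShriek.restrAlong g).obj F) 0)) :
    Mono (EtDual.unitApp j F) := by
  have : Mono ((sheafToPresheaf X.smallEtaleTopology AddCommGrpCat.{u + 1}).map (EtDual.unitApp j F)) := by
    have : ∀ W, Mono ((EtDual.unitApp j F).hom.app W) := by
      rintro ⟨W⟩
      rw [AddCommGrpCat.mono_iff_injective, injective_iff_map_eq_zero]
      intro s hs
      have : Etale W.hom := W.prop
      let g := W.hom
      let i : (EtShriek.compEtale g).obj (EtCoh.top W.left) ≅ W :=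
        MorphismProperty.Over.isoMk (Iso.refl _) (by
          show 𝟙 _ ≫ g = 𝟙 _ ≫ g
          rfl)
      have hs' : ((EtShriek.restrAlong g).map (EtDual.unitApp j F)).hom.app (op (EtCoh.top W.left))
          (F.obj.map i.hom.op s) = 0 := by
        refine (NatTrans.naturality_apply (EtDual.unitApp j F).hom i.hom.op s).trans ?_
        rw [hs, map_zero]
        rfl
      have h0 := eq_zero_of_injective (pullback.snd j g) _ (h W.left g) _
        ((EtSupp.EtaleBC.restr_unitApp_eq_zero_iff g j (pullback.snd j g)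
          (Scheme.Pullback.range_snd j g) F _ _).1 hs')
      exact (ConcreteCategory.bijective_of_isIso (F.obj.map i.hom.op)).1 (h0.trans (map_zero _).symm)
    exact NatTrans.mono_of_mono_app (EtDual.unitApp j F).hom
  exact (sheafToPresheaf _ _).mono_of_mono_map this

/-- The restriction property on all étale schemes gives depth. -/
theorem depthGE_of_forall : ∀ (n : ℕ) (F : EtCoh.Ab X),
    (∀ (X' : Scheme.{u}) (g : X' ⟶ X) [Etale g],
      Cond (pullback.snd j g) ((EtShriek.restrAlong g).obj F) n) → EtDepth.DepthGE j F n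
  | 0, F, _ => fun p hp => absurd hp (by omega)
  | 1, F, h => fun p hp => by
    obtain rfl : p = 0 := by omega
    exact (isZero_locCoh_zero_iff j F).2
      (mono_unit_of_forall j F fun X' g _ => (cond_one_iff _ _).1 (h X' g))
  | n + 2, F, h => by
    have hm := mono_unit_of_forall j F fun X' g _ => ((h X' g).1 0 (by omega)).1
    obtain ⟨S, hS, rfl, _, _⟩ := exists_embedding j F
    refine (depthGE_succ_iff j hS hm (n + 1)).2 (depthGE_of_forall (n + 1) _ fun X' g _ => ?_)
    have : IsIso (EtDual.unitApp (pullback.snd j g) (S.map (EtShriek.restrAlong g)).X₂) :=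
      isIso_unit_restr j g S.X₂
    have : Injective (S.map (EtShriek.restrAlong g)).X₂ :=
      (inferInstance : (EtShriek.restrAlong g).PreservesInjectiveObjects).injective_obj ‹_›
    exact ((cond_succ_iff (pullback.snd j g) (hS.map_of_exact (EtShriek.restrAlong g))
      (by omega)).1 (h X' g)).2

end Groth.Agent.EtDepthLib
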